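import Groth.Prelude.Def_ModFun
import Groth.Agent.DescLib.Family
import Groth.Agent.DescLib.Main
import Groth.Agent.RepDescLib.Basic

/-!
# Coarse moduli by descent from a cover with a fine moduli scheme
-/

set_option autoImplicit false
set_option linter.style.haveILetI false
set_option linter.unusedSectionVars false
set_option backward.isDefEq.respectTransparency false
set_option maxRecDepth 8000
set_option maxHeartbeats 1000000

universe v u

open CategoryTheory CategoryTheory.Limits AlgebraicGeometry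

noncomputable section

namespace CoarseDescLib

/-- The laws of a moduli problem needed for descent. -/
structure Lawful {S : Scheme.{u}} (F : ModFun.Problem.{v} S) : Prop where
  okPull : ∀ {T' T : Over S} (g : T' ⟶ T) (x : F.Fam T), F.ok T x → F.ok T' (F.pull g x)
  rId : ∀ {T : Over S} (x : F.Fam T), F.r T (F.pull (𝟙 T) x) x
  pullPull : ∀ {T'' T' T : Over S} (g : T' ⟶ T) (h : T'' ⟶ T') (x : F.Fam T),
    F.r T'' (F.pull h (F.pull g x)) (F.pull (h ≫ g) x)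
  rSymm : ∀ {T : Over S} {x y : F.Fam T}, F.r T x y → F.r T y x
  rTrans : ∀ {T : Over S} {x y z : F.Fam T}, F.r T x y → F.r T y z → F.r T x z
  rPull : ∀ {T' T : Over S} (g : T' ⟶ T) {x y : F.Fam T}, F.r T x y → F.r T' (F.pull g x) (F.pull g y)

variable {S : Scheme.{u}} {F : ModFun.Problem.{v} S} {P A : Over S} (π : A ⟶ P) (ξ : F.Fam A)

/-- `A` represents the families over schemes over the cover. -/
def FineOver : Prop :=
  F.ok A ξ ∧ ∀ (T : Over S) (x : T ⟶ P) (L : F.Fam T), F.ok T L →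
    ∃! a : T ⟶ A, a ≫ π = x ∧ F.r T (F.pull a ξ) L

/-- Two points of `A` classify the same family. -/
def Same {T : Over S} (a b : T ⟶ A) : Prop := F.r T (F.pull a ξ) (F.pull b ξ)

variable {π ξ} (hF : Lawful F) (h : FineOver π ξ)
include hF h

theorem same_refl {T : Over S} (a : T ⟶ A) : Same ξ a a :=
  hF.rTrans (hF.rSymm (hF.rId _)) (hF.rId _)

theorem same_comp {T' T : Over S} (g : T' ⟶ T) {a b : T ⟶ A} (e : Same ξ a b) : Same ξ (g ≫ a) (g ≫ b) :=
  hF.rTrans (hF.rSymm (hF.pullPull a g ξ)) (hF.rTrans (hF.rPull g e) (hF.pullPull b g ξ))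

theorem eq_of_same {T : Over S} {a b : T ⟶ A} (e : Same ξ a b) (e' : a ≫ π = b ≫ π) : a = b :=
  (h.2 T (b ≫ π) _ (hF.okPull b ξ h.1)).unique ⟨e', e⟩ ⟨rfl, same_refl hF h b⟩

/-- **A coarse moduli scheme by descent.** -/
theorem exists_coarse [DescLib.Fpqc P.hom]
    (heff : ∀ D : Desc.SchDD P.hom, D.obj = Over.mk π.left →
      ∃ U : Over S, Nonempty ((Desc.toDD P.hom).obj U ≅ D))
    (hpts : ∀ (Ω : Type u) [Field Ω] [IsAlgClosed Ω] (t : Spec (CommRingCat.of Ω) ⟶ S), Nonempty (Over.mk t ⟶ P)) :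
    ∃ (J : Over S) (φ : F.Hom ⊤ J) (q : A ⟶ J), ModFun.IsCoarseModuli ⊤ F J φ ∧
      IsPullback q.left π.left J.hom P.hom ∧ φ.app A ξ trivial h.1 = q := by
  classical
  have ex : ∀ {T : Scheme.{u}} (x₀ x₁ : T ⟶ P.left) (e : x₀ ≫ P.hom = x₁ ≫ P.hom) (v : T ⟶ A.left)
      (hv : v ≫ π.left = x₀), ∃! w : T ⟶ A.left, w ≫ π.left = x₁ ∧
        ∃ (a b : Over.mk (x₀ ≫ P.hom) ⟶ A), a.left = v ∧ b.left = w ∧ Same ξ a b := by
    intro T x₀ x₁ e v hv
    let a : Over.mk (x₀ ≫ P.hom) ⟶ A := Over.homMk v (by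
      show v ≫ A.hom = x₀ ≫ P.hom
      rw [← Over.w π, ← Category.assoc, hv])
    obtain ⟨b, ⟨hb, hb'⟩, hu⟩ := h.2 (Over.mk (x₀ ≫ P.hom)) (Over.homMk x₁ e.symm) _ (hF.okPull a ξ h.1)
    refine ⟨b.left, ⟨congrArg CommaMorphism.left hb, a, b, rfl, rfl, hF.rSymm hb'⟩, ?_⟩
    rintro w ⟨hw, a', b', ha', rfl, hab⟩
    obtain rfl : a' = a := Over.OverMorphism.ext ha'
    exact congrArg CommaMorphism.left (hu b' ⟨Over.OverMorphism.ext hw, hF.rSymm hab⟩)
  let m : ∀ {T : Scheme.{u}} (x₀ x₁ : T ⟶ P.left), x₀ ≫ P.hom = x₁ ≫ P.hom →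
      Desc.Lifts (Over.mk π.left) x₀ → Desc.Lifts (Over.mk π.left) x₁ := fun {T} x₀ x₁ e v =>
    ⟨(ex x₀ x₁ e v.1 v.2).choose, (ex x₀ x₁ e v.1 v.2).choose_spec.1.1⟩
  have mspec : ∀ {T : Over S} (x₀ x₁ : T.left ⟶ P.left) (e : x₀ ≫ P.hom = x₁ ≫ P.hom)
      (v : Desc.Lifts (Over.mk π.left) x₀) (w : Desc.Lifts (Over.mk π.left) x₁) (a b : T ⟶ A),
      a.left = v.1 → b.left = w.1 → (Same ξ a b ↔ m x₀ x₁ e v = w) := by
    intro T x₀ x₁ e v w a b ha hb
    have hT : x₀ ≫ P.hom = T.hom := by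
      rw [← show v.1 ≫ π.left = x₀ from v.2, Category.assoc, Over.w π, ← ha, Over.w]
    let i : Over.mk (x₀ ≫ P.hom) ⟶ T := Over.homMk (𝟙 _) (by
      show 𝟙 _ ≫ T.hom = x₀ ≫ P.hom
      rw [Category.id_comp, hT])
    let i' : T ⟶ Over.mk (x₀ ≫ P.hom) := Over.homMk (𝟙 _) (by
      show 𝟙 _ ≫ x₀ ≫ P.hom = T.hom
      rw [Category.id_comp, hT])
    constructor
    · intro hab
      refine Subtype.ext (((ex x₀ x₁ e v.1 v.2).choose_spec.2 w.1 ⟨w.2, i ≫ a, i ≫ b, ?_, ?_, ?_⟩).symm)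
      · exact (Category.id_comp _).trans ha
      · exact (Category.id_comp _).trans hb
      · exact same_comp hF h i hab
    · intro hm
      obtain ⟨a', b', ha', hb', hab⟩ := (ex x₀ x₁ e v.1 v.2).choose_spec.1.2
      have h₁ : a = i' ≫ a' := Over.OverMorphism.ext (by
        show a.left = 𝟙 _ ≫ a'.left
        rw [Category.id_comp, ha, ha'])
      have h₂ : b = i' ≫ b' := Over.OverMorphism.ext (by
        show b.left = 𝟙 _ ≫ b'.left
        rw [Category.id_comp, hb, hb', ← hm])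
      rw [h₁, h₂]
      exact same_comp hF h i' hab
  have mk' : ∀ {T : Scheme.{u}} (x₀ x : T ⟶ P.left) (_ : x₀ ≫ P.hom = x ≫ P.hom) (v : Desc.Lifts (Over.mk π.left) x),
      ∃ a : Over.mk (x₀ ≫ P.hom) ⟶ A, a.left = v.1 := fun {T} x₀ x e v => ⟨Over.homMk v.1 (by
    show v.1 ≫ A.hom = x₀ ≫ P.hom
    rw [← Over.w π, ← Category.assoc, show v.1 ≫ π.left = x from v.2, e]), rfl⟩
  have mself : ∀ {T : Scheme.{u}} (x : T ⟶ P.left) (v : Desc.Lifts (Over.mk π.left) x), m x x rfl v = v := by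
    intro T x v
    obtain ⟨a, ha⟩ := mk' x x rfl v
    exact (mspec (T := Over.mk (x ≫ P.hom)) x x rfl v v a a ha ha).1 (same_refl hF h a)
  have mcomp : ∀ {T : Scheme.{u}} (x₀ x₁ x₂ : T ⟶ P.left) (e₁ : x₀ ≫ P.hom = x₁ ≫ P.hom)
      (e₂ : x₁ ≫ P.hom = x₂ ≫ P.hom) (v : Desc.Lifts (Over.mk π.left) x₀),
      m x₁ x₂ e₂ (m x₀ x₁ e₁ v) = m x₀ x₂ (e₁.trans e₂) v := by
    intro T x₀ x₁ x₂ e₁ e₂ v
    obtain ⟨a, ha⟩ := mk' x₀ x₀ rfl v
    obtain ⟨b, hb⟩ := mk' x₀ x₁ e₁ (m x₀ x₁ e₁ v)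
    obtain ⟨c, hc⟩ := mk' x₀ x₂ (e₁.trans e₂) (m x₁ x₂ e₂ (m x₀ x₁ e₁ v))
    have h₁ := (mspec (T := Over.mk (x₀ ≫ P.hom)) x₀ x₁ e₁ v _ a b ha hb).2 rfl
    have h₂ := (mspec (T := Over.mk (x₀ ≫ P.hom)) x₁ x₂ e₂ _ _ b c hb hc).2 rfl
    exact ((mspec (T := Over.mk (x₀ ≫ P.hom)) x₀ x₂ (e₁.trans e₂) v _ a c ha hc).1 (hF.rTrans h₁ h₂)).symm
  let D : Desc.SchDD P.hom :=
    { obj := Over.mk π.left
      φ := fun T x₀ x₁ e =>
        { toFun := m x₀ x₁ e
          invFun := m x₁ x₀ e.symm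
          left_inv := fun v => (mcomp x₀ x₁ x₀ e e.symm v).trans (mself x₀ v)
          right_inv := fun v => (mcomp x₁ x₀ x₁ e.symm e v).trans (mself x₁ v) }
      φ_natural := by
        intro T T' g x₀ x₁ e e' v v' hv'
        obtain ⟨a, ha⟩ := mk' x₀ x₀ rfl v
        obtain ⟨b, hb⟩ := mk' x₀ x₁ e (m x₀ x₁ e v)
        have hab := (mspec (T := Over.mk (x₀ ≫ P.hom)) x₀ x₁ e v _ a b ha hb).2 rfl
        let g' : Over.mk ((g ≫ x₀) ≫ P.hom) ⟶ Over.mk (x₀ ≫ P.hom) := Over.homMk g (Category.assoc _ _ _).symm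
        have hw : (g ≫ (m x₀ x₁ e v).1) ≫ π.left = g ≫ x₁ := by
          rw [Category.assoc]; exact congrArg (g ≫ ·) (m x₀ x₁ e v).2
        have key : m (g ≫ x₀) (g ≫ x₁) e' v' = ⟨g ≫ (m x₀ x₁ e v).1, hw⟩ :=
          (mspec (T := Over.mk ((g ≫ x₀) ≫ P.hom)) (g ≫ x₀) (g ≫ x₁) e' v' ⟨_, hw⟩ (g' ≫ a) (g' ≫ b)
            (by show g ≫ a.left = v'.1; rw [ha, hv']) (by show g ≫ b.left = g ≫ _; rw [hb])).1
            (same_comp hF h g' hab)
        exact congrArg Subtype.val key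
      φ_self := fun _ x v => mself x v
      φ_comp := fun _ x₀ x₁ x₂ e₁ e₂ v => mcomp x₀ x₁ x₂ e₁ e₂ v }
  obtain ⟨U, g, q, hq⟩ := DescLib.exists_isQuot_of_effective D (heff D rfl)
  have hrel : ∀ {T : Over S} (a b : T ⟶ A), DescLib.Rel D a.left b.left ↔ Same ξ a b := by
    intro T a b
    constructor
    · rintro ⟨e, he⟩
      exact (mspec _ _ e ⟨a.left, rfl⟩ ⟨b.left, rfl⟩ a b rfl rfl).2 (Subtype.ext he)
    · intro hab
      have e : (a.left ≫ π.left) ≫ P.hom = (b.left ≫ π.left) ≫ P.hom := by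
        rw [Category.assoc, Category.assoc, Over.w π, Over.w, Over.w]
      exact ⟨e, congrArg Subtype.val ((mspec _ _ e ⟨a.left, rfl⟩ ⟨b.left, rfl⟩ a b rfl rfl).1 hab)⟩
  have hpb : IsPullback q π.left g P.hom := by simpa [D] using hq.isPullback
  let J : Over S := Over.mk g
  let q' : A ⟶ J := Over.homMk q (by rw [show J.hom = g from rfl, hpb.w, Over.w π])
  haveI hqf : DescLib.Fpqc q'.left := hq.fpqc
  haveI : Epi q'.left := inferInstance
  have quot_eq : ∀ {T : Over S} (a b : T ⟶ A), Same ξ a b → a ≫ q' = b ≫ q' := by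
    intro T a b hab
    refine Over.OverMorphism.ext ?_
    have := hq.rel a.left b.left (by rw [Category.comp_id, Category.comp_id]; exact (hrel a b).2 hab)
    simpa [q', D] using this
  have same_of_quot : ∀ {T : Over S} (a b : T ⟶ A), a ≫ q' = b ≫ q' → Same ξ a b := by
    intro T a b hab
    refine (hrel a b).1 ?_
    have r := hq.rel_of_eq (a := a.left) (b := b.left) (congrArg CommaMorphism.left hab)
    simpa [D] using r
  -- the pullback of the cover to a test scheme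
  let T' : Over S → Over S := fun T => Over.mk (pullback.fst T.hom P.hom ≫ T.hom)
  let c : ∀ T, T' T ⟶ T := fun T => Over.homMk (pullback.fst T.hom P.hom) rfl
  let x : ∀ T, T' T ⟶ P := fun T => Over.homMk (pullback.snd T.hom P.hom) pullback.condition.symm
  haveI hc : ∀ T, DescLib.Fpqc (c T).left := fun T => inferInstanceAs (DescLib.Fpqc (pullback.fst T.hom P.hom))
  haveI hce : ∀ T, Epi (c T).left := fun T => inferInstance
  have classify : ∀ (T : Over S) (L : F.Fam T), F.ok T L → ∃ v : T ⟶ J, ∀ (R : Over S) (a : R ⟶ A) (k : R ⟶ T),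
      F.r R (F.pull a ξ) (F.pull k L) → k ≫ v = a ≫ q' := by
    intro T L hL
    obtain ⟨b, ⟨hb₁, hb₂⟩, -⟩ := h.2 (T' T) (x T) _ (hF.okPull (c T) L hL)
    have key : ∀ {R : Over S} (f₁ f₂ : R ⟶ T' T), f₁ ≫ c T = f₂ ≫ c T → f₁ ≫ b ≫ q' = f₂ ≫ b ≫ q' := by
      intro R f₁ f₂ e
      rw [← Category.assoc, ← Category.assoc]
      refine quot_eq _ _ ?_
      have r₁ : F.r R (F.pull (f₁ ≫ b) ξ) (F.pull (f₁ ≫ c T) L) :=
        hF.rTrans (hF.rSymm (hF.pullPull b f₁ ξ)) (hF.rTrans (hF.rPull f₁ hb₂) (hF.pullPull (c T) f₁ L))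
      have r₂ : F.r R (F.pull (f₂ ≫ b) ξ) (F.pull (f₂ ≫ c T) L) :=
        hF.rTrans (hF.rSymm (hF.pullPull b f₂ ξ)) (hF.rTrans (hF.rPull f₂ hb₂) (hF.pullPull (c T) f₂ L))
      rw [← e] at r₂
      exact hF.rTrans r₁ (hF.rSymm r₂)
    have inv : ∀ {R : Scheme.{u}} (f₁ f₂ : R ⟶ (T' T).left), f₁ ≫ (c T).left = f₂ ≫ (c T).left →
        f₁ ≫ (b ≫ q').left = f₂ ≫ (b ≫ q').left := by
      intro R f₁ f₂ e
      let R' : Over S := Over.mk (f₁ ≫ (T' T).hom)
      let g₁ : R' ⟶ T' T := Over.homMk f₁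
      let g₂ : R' ⟶ T' T := Over.homMk f₂ (by
        show f₂ ≫ (T' T).hom = f₁ ≫ (T' T).hom
        rw [← Over.w (c T), ← Category.assoc, ← e, Category.assoc, Over.w (c T)])
      exact congrArg CommaMorphism.left (key g₁ g₂ (Over.OverMorphism.ext e))
    let a₀ : T.left ⟶ J.left := EffectiveEpi.desc (c T).left (b ≫ q').left inv
    have ha₀ : (c T).left ≫ a₀ = (b ≫ q').left := EffectiveEpi.fac _ _ _
    let v : T ⟶ J := Over.homMk a₀ (by
      apply (cancel_epi (c T).left).1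
      rw [← Category.assoc, ha₀, Over.w (b ≫ q')]
      exact (Over.w (c T)).symm)
    refine ⟨v, fun R a k hr => ?_⟩
    let l : R ⟶ T' T := Over.homMk (pullback.lift k.left (a ≫ π).left (by rw [Over.w k, Over.w])) (by
      show pullback.lift _ _ _ ≫ pullback.fst T.hom P.hom ≫ T.hom = R.hom
      rw [pullback.lift_fst_assoc, Over.w k])
    have hlc : l ≫ c T = k := Over.OverMorphism.ext (pullback.lift_fst _ _ _)
    have hlx : l ≫ x T = a ≫ π := Over.OverMorphism.ext (pullback.lift_snd _ _ _)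
    have r₁ : F.r R (F.pull (l ≫ b) ξ) (F.pull k L) := by
      rw [← hlc]
      exact hF.rTrans (hF.rSymm (hF.pullPull b l ξ)) (hF.rTrans (hF.rPull l hb₂) (hF.pullPull (c T) l L))
    have hab : a = l ≫ b := eq_of_same hF h (hF.rTrans hr (hF.rSymm r₁)) (by rw [Category.assoc, hb₁, hlx])
    rw [hab, ← hlc, Category.assoc]
    exact congrArg (l ≫ ·) (Over.OverMorphism.ext ha₀ : c T ≫ v = b ≫ q') |>.trans (Category.assoc _ _ _).symm
  choose app happ using classify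
  have app_unique : ∀ (T : Over S) (L : F.Fam T) (hL : F.ok T L) (v : T ⟶ J),
      (∀ (R : Over S) (a : R ⟶ A) (k : R ⟶ T), F.r R (F.pull a ξ) (F.pull k L) → k ≫ v = a ≫ q') →
        app T L hL = v := by
    intro T L hL v hv
    obtain ⟨b, ⟨-, hb₂⟩, -⟩ := h.2 (T' T) (x T) _ (hF.okPull (c T) L hL)
    exact Over.OverMorphism.ext ((cancel_epi (c T).left).1
      (congrArg CommaMorphism.left ((happ T L hL _ b (c T) hb₂).trans (hv _ b (c T) hb₂).symm)))
  let φ : F.Hom ⊤ J :=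
    { app := fun T L _ hL => app T L hL
      natural := fun {T₁ T₂} f L _ _ hL hL' => app_unique _ _ hL' _ fun R a k hr => by
        rw [← Category.assoc]
        exact happ T₁ L hL R a (k ≫ f) (hF.rTrans hr (hF.pullPull f k L))
      resp := fun {T} L L' _ hL hL' hr => app_unique _ _ hL _ fun R a k hr' =>
        happ T L' hL' R a k (hF.rTrans hr' (hF.rPull k hr)) }
  have app_q : ∀ (T : Over S) (L : F.Fam T) (hL : F.ok T L) (a : T ⟶ A), F.r T (F.pull a ξ) L →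
      app T L hL = a ≫ q' := fun T L hL a hr => by
    simpa using happ T L hL T a (𝟙 T) (hF.rTrans hr (hF.rSymm (hF.rId L)))
  refine ⟨J, φ, q', ⟨fun Ω _ _ t => trivial, fun N χ => ?_, fun Ω _ _ t _ => ?_⟩, hpb, ?_⟩
  · let fA : A ⟶ N := χ.app A ξ trivial h.1
    have inv : ∀ {R : Scheme.{u}} (f₁ f₂ : R ⟶ A.left), f₁ ≫ q'.left = f₂ ≫ q'.left →
        f₁ ≫ fA.left = f₂ ≫ fA.left := by
      intro R f₁ f₂ e
      let R' : Over S := Over.mk (f₁ ≫ A.hom)
      let g₁ : R' ⟶ A := Over.homMk f₁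
      let g₂ : R' ⟶ A := Over.homMk f₂ (by
        show f₂ ≫ A.hom = f₁ ≫ A.hom
        rw [← Over.w q', ← Category.assoc, ← e, Category.assoc, Over.w q'])
      have hs := same_of_quot g₁ g₂ (Over.OverMorphism.ext e)
      have hh : g₁ ≫ fA = g₂ ≫ fA := by
        rw [← χ.natural g₁ ξ trivial trivial h.1 (hF.okPull g₁ ξ h.1),
          ← χ.natural g₂ ξ trivial trivial h.1 (hF.okPull g₂ ξ h.1)]
        exact χ.resp _ _ trivial _ _ hs
      exact congrArg CommaMorphism.left hh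
    let f₀ : J.left ⟶ N.left := EffectiveEpi.desc q'.left fA.left inv
    have hf₀ : q'.left ≫ f₀ = fA.left := EffectiveEpi.fac _ _ _
    let f : J ⟶ N := Over.homMk f₀ (by
      apply (cancel_epi q'.left).1
      rw [← Category.assoc, hf₀, Over.w fA]
      exact (Over.w q').symm)
    have hqf' : q' ≫ f = fA := Over.OverMorphism.ext hf₀
    refine ⟨f, fun T L _ hL => ?_, fun f' hf' => ?_⟩
    · obtain ⟨b, ⟨-, hb₂⟩, -⟩ := h.2 (T' T) (x T) _ (hF.okPull (c T) L hL)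
      have e₁ : c T ≫ χ.app T L trivial hL = b ≫ fA := by
        rw [← χ.natural (c T) L trivial trivial hL (hF.okPull (c T) L hL),
          ← χ.natural b ξ trivial trivial h.1 (hF.okPull b ξ h.1)]
        exact χ.resp _ _ trivial _ _ (hF.rSymm hb₂)
      have e₂ : c T ≫ app T L hL ≫ f = b ≫ fA := by
        rw [← Category.assoc, happ T L hL _ b (c T) hb₂, Category.assoc, hqf']
      exact Over.OverMorphism.ext ((cancel_epi (c T).left).1 (congrArg CommaMorphism.left (e₁.trans e₂.symm)))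
    · refine Over.OverMorphism.ext ((cancel_epi q'.left).1 ?_)
      have e := hf' A ξ trivial h.1
      rw [show φ.app A ξ trivial h.1 = q' from (app_q A ξ h.1 (𝟙 A) (hF.rId ξ)).trans (Category.id_comp _)] at e
      exact (congrArg CommaMorphism.left e).symm.trans hf₀.symm
  · obtain ⟨y⟩ := hpts Ω t
    refine ⟨fun v => ?_, fun L L' hL hL' e => ?_⟩
    · let a : Over.mk t ⟶ A := Over.homMk (hpb.lift v.left y.left (by
        rw [show g = J.hom from rfl, Over.w v, Over.w y])) (by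
          rw [← Over.w π, ← Category.assoc, hpb.lift_snd]; exact Over.w y)
      refine ⟨F.pull a ξ, hF.okPull a ξ h.1, ?_⟩
      refine (app_q _ _ (hF.okPull a ξ h.1) a (same_refl hF h a)).trans ?_
      exact Over.OverMorphism.ext (hpb.lift_fst _ _ _)
    · obtain ⟨a, ⟨-, ha⟩, -⟩ := h.2 _ y L hL
      obtain ⟨b, ⟨-, hb⟩, -⟩ := h.2 _ y L' hL'
      have e' : app _ L hL = app _ L' hL' := e
      rw [app_q _ L hL a ha, app_q _ L' hL' b hb] at e'
      exact hF.rTrans (hF.rSymm ha) (hF.rTrans (same_of_quot a b e') hb)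
  · exact (app_q A ξ h.1 (𝟙 A) (hF.rId ξ)).trans (Category.id_comp _)

omit hF h in
/-- Coarse moduli schemes are isomorphic compatibly with their classifying maps. -/
theorem exists_iso_of_coarse {M M' : Over S} {φ : F.Hom ⊤ M} {φ' : F.Hom ⊤ M'}
    (hM : ModFun.IsBestApprox ⊤ F M φ) (hM' : ModFun.IsBestApprox ⊤ F M' φ') :
    ∃ e : M ≅ M', ∀ (T : Over S) (L : F.Fam T) (hT : (⊤ : ObjectProperty (Over S)) T) (hL : F.ok T L),
      φ.app T L hT hL ≫ e.hom = φ'.app T L hT hL := by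
  obtain ⟨u, hu, -⟩ := hM M' φ'
  obtain ⟨v, hv, -⟩ := hM' M φ
  have h1 : u ≫ v = 𝟙 M := (hM M φ).unique
    (fun T L hT hL => by rw [← Category.assoc, ← hu, ← hv]) (fun T L hT hL => (Category.comp_id _).symm)
  have h2 : v ≫ u = 𝟙 M' := (hM' M' φ').unique
    (fun T L hT hL => by rw [← Category.assoc, ← hv, ← hu]) (fun T L hT hL => (Category.comp_id _).symm)
  exact ⟨⟨u, v, h1, h2⟩, fun T L hT hL => (hu T L hT hL).symm⟩

end CoarseDescLib

end
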